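import Groth.Agent.VeryAmpleLib.Colength
import Groth.Agent.RRVanLib.GG
import Groth.Agent.GenusZeroLib.Mult
import Groth.Agent.AmpleDevLib.Pull
import Groth.Agent.AmpleThLib.Embed
import Groth.Agent.DevissLib.ClosedImm
import Groth.Agent.ConsLib.ModLoci

/-!
# Complete linear systems of degree at least `2g + 1` over an algebraically closed field
-/

set_option autoImplicit false
universe u

open CategoryTheory CategoryTheory.Limits AlgebraicGeometry TopologicalSpace Opposite
open AmpleLib DevissLib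
open TwistLib (genSet genSet_genOn)
open KFlatLib (pb puSec)
open GenusZeroLib (kmod e0k ρ)

noncomputable section

namespace VeryAmpleLib

variable (K : Type u) [Field K] [IsAlgClosed K] {X : Scheme.{u}} [X.Over (Spec (CommRingCat.of K))]
  [IsProper (X ↘ Spec (CommRingCat.of K))] [IsIntegral X]

/-- The structure of `K`-algebra on sections. -/
def cst (V : X.Opens) : K →+* Γ(X, V) :=
  (X.presheaf.map (homOfLE (le_top : V ≤ ⊤)).op).hom.comp (ρ K)

/-- The ratios of a spanning family are not all constant on a subscheme of length two. -/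
theorem ratios_separate (hdim : topologicalKrullDim X = 1) {L : X.Modules} (hL : PicF.IsInvertible L)
    (hdeg : 2 * (Curv2.genus K X : ℤ) + 1 ≤ Curv2.deg K X L 1) {m : ℕ} (v : Fin m → Γ(L, ⊤))
    (hspan : ∀ t : Γ(L, ⊤), ∃ c : Fin m → K, t = ∑ l, ρ (X := X) K (c l) • v l)
    (σ : Γ(L, ⊤)) (hV : IsAffineOpen (genSet hL σ)) (J : Ideal Γ(X, genSet hL σ))
    (hJ : letI := (cst K (genSet hL σ)).toAlgebra; Module.finrank K (Γ(X, genSet hL σ) ⧸ J) = 2)
    (hc : ∀ l, ∃ (c : K) (a : Γ(X, genSet hL σ)),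
      a • res L (le_top : genSet hL σ ≤ ⊤) σ = res L le_top (v l) ∧ a - cst K (genSet hL σ) c ∈ J) : False := by
  classical
  haveI := CurvLib.isNoetherian K (X := X)
  let V := genSet hL σ
  letI : Algebra K Γ(X, V) := (cst K V).toAlgebra
  let B := Γ(X, V) ⧸ J
  haveI : Module.Finite K B := Module.finite_of_finrank_pos (by rw [hJ]; omega)
  let Z : Scheme.{u} := Spec (CommRingCat.of B)
  let mk : Γ(X, V) ⟶ CommRingCat.of B := CommRingCat.ofHom (Ideal.Quotient.mk J)
  let i : Z ⟶ X := Spec.map mk ≫ hV.fromSpec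
  letI : Z.Over (Spec (CommRingCat.of K)) := ⟨i ≫ X ↘ Spec (CommRingCat.of K)⟩
  have hZ : i ≫ X ↘ Spec (CommRingCat.of K) = Spec.map (CommRingCat.ofHom (algebraMap K B)) := by
    have h1 := IsAffineOpen.SpecMap_appLE_fromSpec (X ↘ Spec (CommRingCat.of K)) (isAffineOpen_top _) hV
      (show V ≤ (X ↘ Spec (CommRingCat.of K)) ⁻¹ᵁ ⊤ from le_top)
    rw [Category.assoc, ← h1, IsAffineOpen.fromSpec_top, Scheme.isoSpec_Spec_inv, ← Spec.map_comp, ← Spec.map_comp]
    rfl
  haveI : IsFinite (Spec.map (CommRingCat.ofHom (algebraMap K B))) :=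
    (IsFinite.SpecMap_iff _).mpr (RingHom.finite_algebraMap.mpr inferInstance)
  haveI : IsProper (i ≫ X ↘ Spec (CommRingCat.of K)) := by rw [hZ]; infer_instance
  haveI : IsProper i := IsProper.of_comp i (X ↘ Spec (CommRingCat.of K))
  haveI : IsClosedImmersion (Spec.map mk) := IsClosedImmersion.spec_of_surjective _ Ideal.Quotient.mk_surjective
  haveI : Mono i := inferInstanceAs (Mono (Spec.map mk ≫ hV.fromSpec))
  haveI : IsClosedImmersion i := (IsClosedImmersion.iff_isProper_and_mono _).mpr ⟨inferInstance, inferInstance⟩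
  have hiV : i ⁻¹ᵁ V = ⊤ := eq_top_iff.mpr fun z _ => by
    change hV.fromSpec ((Spec.map mk) z) ∈ V
    exact hV.range_fromSpec.le ⟨_, rfl⟩
  -- the restriction of the generator
  let M : Z.Modules := pb i L
  let e : Γ(M, ⊤) := puSec i σ
  have hsV : GenOn L (res L (le_top : V ≤ ⊤) σ) := genSet_genOn hL σ
  have he : GenOn M e := TwistLib.genOn_of_genAt fun z hz => by
    have h1 := TwistLib.GenAt.puSec i (x := z) (hx := (show i z ∈ V from hiV.ge hz))
      (hsV.genAt (hiV.ge hz))
    rw [TwistLib.puSec_res] at h1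
    exact (genAt_res _ _ _).mp h1
  have hmk : Function.Surjective (i.app V) := Scheme.Hom.app_surjective i V hV
  -- dimension of sections
  letI := kmod K M
  have hfM : Module.finrank K (Coh.HH Z M 0) = 2 := by
    rw [(e0k K M).finrank_eq]
    let f : B →ₗ[K] Γ(M, ⊤) :=
      { toFun := fun b => (show Γ(Z, ⊤) from (Scheme.ΓSpecIso (CommRingCat.of B)).inv b) • e
        map_add' := fun a b => by rw [map_add]; exact add_smul _ _ _
        map_smul' := fun c b => by
          refine Eq.trans (congrArg (fun r : Γ(Z, ⊤) => r • e) ?_) (mul_smul (ρ (X := Z) K c) _ e)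
          rw [Algebra.smul_def, map_mul]
          refine congrArg (· * _) ?_
          refine Eq.trans ?_ (congrArg (fun g : Z ⟶ Spec (CommRingCat.of K) => Coh.toGlobal g c) hZ).symm
          exact (ConcreteCategory.congr_hom (Scheme.ΓSpecIso_inv_naturality (CommRingCat.ofHom (algebraMap K B))) c) }
    have hf : Function.Bijective f := by
      have h1 := he ⊤ le_rfl
      simp only [AmpleLib.res_refl] at h1
      exact h1.comp (ConcreteCategory.bijective_of_isIso (Scheme.ΓSpecIso (CommRingCat.of B)).inv)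
    rw [← (LinearEquiv.ofBijective f hf).finrank_eq, hJ]
  -- the restriction map
  let Q : X.Modules := (Coh.push i).obj M
  let π : L ⟶ Q := (Scheme.Modules.pullbackPushforwardAdjunction i).unit.app L
  have hMc : Coh.IsCoh M := by
    haveI : IsProper (Z ↘ Spec (CommRingCat.of K)) := inferInstanceAs (IsProper (i ≫ X ↘ Spec (CommRingCat.of K)))
    haveI : IsNoetherian Z := CurvLib.isNoetherian K (X := Z)
    exact CurvLib.isCoh_of_isInvertible (AmpleDevLib.isInvertible_pb i hL)
  have hQc : Coh.IsCoh Q := QCohLib.isCoh_push_finite i M hMc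
  haveI : Epi π := by
    refine Abelian.epi_of_cokernel_π_eq_zero _ ((isZero_of_support_empty
      (Set.eq_empty_of_forall_notMem fun x hx => notMem_support_cokernel _ x (fun a => ?_) hx)).eq_of_tgt _ _)
    obtain ⟨U, hxU, t, rfl⟩ := exists_gm_eq _ x a
    by_cases hxV : x ∈ V
    · obtain ⟨W, hW, hxW, hWU⟩ := Opens.isBasis_iff_nbhd.mp X.isBasis_affineOpens (show x ∈ U ⊓ V from ⟨hxU, hxV⟩)
      obtain ⟨b, hb⟩ := (he (i ⁻¹ᵁ W) le_top).2 (res M (i.preimage_mono (fun y hy => (hWU hy).1) : i ⁻¹ᵁ W ≤ i ⁻¹ᵁ U) t)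
      obtain ⟨a, ha⟩ := Scheme.Hom.app_surjective i W hW b
      refine ⟨gm _ x hxW (a • res L (le_top : W ≤ ⊤) σ), ?_⟩
      rw [gm_app]
      refine (congrArg (gm Q x hxW) ?_).trans (gm_map Q (fun y hy => (hWU hy).1) x hxW t)
      change puSec i (a • res L (le_top : W ≤ ⊤) σ) = _
      rw [TwistLib.puSec_smul, TwistLib.puSec_res, ha]
      exact hb
    · haveI : Subsingleton ((DevissLib.St x).obj Q) := by
        by_contra h
        obtain ⟨z, rfl⟩ := DevissLib.support_push_subset i M (show x ∈ CohB1.support Q from h)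
        exact hxV (hiV.ge (show z ∈ (⊤ : Z.Opens) from trivial))
      exact ⟨0, Subsingleton.elim _ _⟩
  have hQd : topologicalKrullDim (CohB1.support Q) ≤ 0 := by
    haveI : IsArtinianRing B := IsArtinianRing.of_finite K B
    haveI : Finite Z := inferInstanceAs (Finite (PrimeSpectrum B))
    haveI : DiscreteTopology Z := inferInstanceAs (DiscreteTopology (PrimeSpectrum B))
    refine le_trans (Topology.IsEmbedding.inclusion (DevissLib.support_push_subset i M)).isInducing.topologicalKrullDim_le ?_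
    refine le_of_eq_of_le (IsHomeomorph.topologicalKrullDim_eq _ (i.isClosedEmbedding.toIsEmbedding.toHomeomorph.symm.isHomeomorph)) ?_
    exact topologicalKrullDim_zero_of_discreteTopology Z
  have h0 := RRVanLib.finrank_h0_structure (k := K) (X := X)
  have hLc := CurvLib.isCoh_of_isInvertible hL
  haveI := RRVanLib.subsingleton_h1 (k := K) hdim h0 hL (by omega)
  let N : X.Modules := kernel π
  have hN : Coh.IsCoh N := QCohLib.isCoh_kernel π hLc hQc.1
  let S : ShortComplex X.Modules := ShortComplex.mk (kernel.ι π) π (kernel.condition π)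
  have hS : S.ShortExact :=
    { exact := ShortComplex.exact_of_f_is_kernel _ (kernelIsKernel _)
      mono_f := inferInstanceAs (Mono (kernel.ι π))
      epi_g := inferInstanceAs (Epi π) }
  have hadd := CurvLib.euler_add_of_isCoh (k := K) hS hN hLc hQc
  change Curv2.euler K X L = Curv2.euler K X N + Curv2.euler K X Q at hadd
  rw [CurvLib.euler_eq_h0 (k := K) hQc hQd, ← DegPullLib.finrank_H0_push K i rfl M, hfM,
    RRVanLib.euler_eq_deg hdim h0] at hadd
  -- the image of the sections is at most a line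
  let b := CurvLib.hMap (k := K) π 0
  letI := kmod K Q
  letI := kmod K L
  have hline : ∀ y, ∃ c : K, c • (e0k K Q).symm (π.app ⊤ σ) = b y := fun y => by
    obtain ⟨c, hy⟩ := hspan (DegPullLib.e0 L y)
    choose d a ha hd using hc
    refine ⟨∑ l, c l * d l, ?_⟩
    apply (e0k K Q).injective
    rw [map_smul, LinearEquiv.apply_symm_apply]
    refine Eq.trans ?_ (RRVanLib.e0_map (k := K) π y).symm
    change (∑ l, c l * d l) • π.app ⊤ σ = _
    rw [hy, Finset.sum_smul, map_sum]
    refine Finset.sum_congr rfl fun l _ => ?_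
    change ρ (X := X) K (c l * d l) • π.app ⊤ σ = π.app ⊤ (ρ (X := X) K (c l) • v l)
    rw [map_mul, mul_smul, Scheme.Modules.Hom.app_smul]
    refine congrArg (ρ (X := X) K (c l) • ·) ?_
    -- restrict to `V`
    have hinj : Function.Injective (res M (le_top : i ⁻¹ᵁ V ≤ ⊤)) := fun p q hpq => by
      refine TwistLib.mod_ext M fun z _ => ?_
      have hz : z ∈ i ⁻¹ᵁ V := hiV.ge trivial
      refine (TopCat.Presheaf.germ_res_apply M.presheaf (homOfLE (le_top : i ⁻¹ᵁ V ≤ ⊤)) z hz p).symm.trans ?_
      exact (congrArg (M.presheaf.germ _ z hz) hpq).trans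
        (TopCat.Presheaf.germ_res_apply M.presheaf (homOfLE (le_top : i ⁻¹ᵁ V ≤ ⊤)) z hz q)
    apply hinj
    have h2 : i.app V (a l) = i.app V (cst K V (d l)) := by
      have hzero : ∀ x ∈ J, i.app V x = 0 := fun x hx => by
        rw [Scheme.Hom.comp_app, hV.fromSpec_app_self]
        change (Spec.map mk).app _ ((Spec Γ(X, V)).presheaf.map _ ((Scheme.ΓSpecIso Γ(X, V)).inv x)) = 0
        rw [← CommRingCat.comp_apply ((Spec Γ(X, V)).presheaf.map _), Scheme.Hom.naturality]
        change (Z.presheaf.map _) ((Spec.map mk).appTop ((Scheme.ΓSpecIso Γ(X, V)).inv x)) = 0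
        rw [← CommRingCat.comp_apply (Scheme.ΓSpecIso Γ(X, V)).inv, ← Scheme.ΓSpecIso_inv_naturality]
        change (Z.presheaf.map _) ((Scheme.ΓSpecIso (CommRingCat.of B)).inv (Ideal.Quotient.mk J x)) = 0
        rw [Ideal.Quotient.eq_zero_iff_mem.mpr hx, map_zero, map_zero]
      exact sub_eq_zero.mp (by rw [← map_sub]; exact hzero _ (hd l))
    have h3 : puSec i (res L (le_top : V ≤ ⊤) (v l)) = (show Γ(Z, i ⁻¹ᵁ V) from i.app V (cst K V (d l))) •
        puSec i (res L (le_top : V ≤ ⊤) σ) := by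
      rw [← ha l, TwistLib.puSec_smul, h2]
    rw [TwistLib.puSec_res, TwistLib.puSec_res] at h3
    refine Eq.trans ?_ h3.symm
    change res M _ ((show Γ(Z, ⊤) from i.app ⊤ (ρ (X := X) K (d l))) • e) = _
    rw [res_smul]
    refine congrArg (fun r : Γ(Z, i ⁻¹ᵁ V) => r • res M _ (puSec i σ)) ?_
    exact (ConcreteCategory.congr_hom (i.naturality (homOfLE (le_top : V ≤ ⊤)).op) (ρ K (d l))).symm
  haveI := CurvLib.finite_HH (k := K) hLc 0
  have hr : Module.finrank K (LinearMap.range b) ≤ 1 := by
    refine le_trans (Submodule.finrank_mono (show LinearMap.range b ≤ K ∙ (e0k K Q).symm (π.app ⊤ σ) from ?_))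
      ((finrank_span_le_card _).trans (by simp))
    rintro _ ⟨y, rfl⟩
    obtain ⟨c, hc'⟩ := hline y
    exact Submodule.mem_span_singleton.mpr ⟨c, hc'⟩
  have hrk := LinearMap.finrank_range_add_finrank_ker b
  rw [← CurvLib.exact₂ (k := K) hS 0, LinearMap.finrank_range_of_inj (CurvLib.injective₀ (k := K) hS)] at hrk
  change Module.finrank K (LinearMap.range b) + Module.finrank K (Coh.HH X N 0) = Module.finrank K (Coh.HH X L 0) at hrk
  have hχL := CurvLib.euler_curve (k := K) hdim L
  rw [RRVanLib.euler_eq_deg hdim h0, Module.finrank_zero_of_subsingleton (R := K) (M := Coh.HH X L 1)] at hχL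
  have hχN := CurvLib.euler_curve (k := K) hdim N
  haveI := CurvLib.finite_HH (k := K) hN 1
  rcases subsingleton_or_nontrivial (Coh.HH X N 1) with h1 | h1
  · rw [Module.finrank_zero_of_subsingleton (R := K) (M := Coh.HH X N 1)] at hχN
    omega
  · have := RRVanLib.h0_le_genus (k := K) hdim hN hL (kernel.ι π) h1
    have := Module.finrank_pos (R := K) (M := Coh.HH X N 1)
    omega

/-- A finite morphism given on charts by ratios of a spanning family is a closed immersion. -/
theorem isClosedImmersion_of_span (hdim : topologicalKrullDim X = 1) {L : X.Modules} (hL : PicF.IsInvertible L)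
    (hdeg : 2 * (Curv2.genus K X : ℤ) + 1 ≤ Curv2.deg K X L 1) {m : ℕ} (v : Fin m → Γ(L, ⊤))
    (hspan : ∀ t : Γ(L, ⊤), ∃ c : Fin m → K, t = ∑ l, ρ (X := X) K (c l) • v l)
    {Q : Scheme.{u}} (q : Q ⟶ Spec (CommRingCat.of K)) (h : X ⟶ Q) [IsFinite h]
    (hq : h ≫ q = X ↘ Spec (CommRingCat.of K)) (D : Fin m → Q.Opens) (hD : ∀ j, IsAffineOpen (D j))
    (hpre : ∀ j, h ⁻¹ᵁ D j = genSet hL (v j)) (hcov : ∀ x : X, ∃ j, x ∈ genSet hL (v j))
    (hu : ∀ j l, ∃ r : Γ(Q, D j), h.appLE (D j) (genSet hL (v j)) (hpre j).ge r •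
      res L (le_top : genSet hL (v j) ≤ ⊤) (v j) = res L le_top (v l)) :
    IsClosedImmersion h := by
  haveI : IsImmersion h := by
    refine AmpleThLib.isImmersion_of_local h D (fun x => (hcov x).imp fun j hj => (hpre j).ge hj) fun j => ?_
    let V := genSet hL (v j)
    have hVa : IsAffineOpen V := by
      rw [show V = h ⁻¹ᵁ D j from (hpre j).symm]
      exact (hD j).preimage h
    have : IsAffine (h ⁻¹ᵁ D j).toScheme := (hpre j).symm ▸ hVa
    have : IsAffine (D j).toScheme := hD j
    refine IsClosedImmersion.of_surjective_of_isAffine _ ?_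
    rw [Scheme.Hom.appTop, morphismRestrict_app']
    refine AmpleThLib.surjective_appLE_congr h (D j).ι_image_top.symm
      ((hpre j).symm.trans (Scheme.Opens.ι_image_top _).symm) (hpre j).ge _ ?_
    letI : Algebra K Γ(X, V) := (cst K V).toAlgebra
    have hcst : ∀ c : K, cst K V c ∈ (h.appLE (D j) V (hpre j).ge).hom.range := fun c => by
      refine ⟨q.appLE ⊤ (D j) le_top ((Scheme.ΓSpecIso (CommRingCat.of K)).inv c), ?_⟩
      rw [← CommRingCat.comp_apply, Scheme.Hom.appLE_comp_appLE]
      simp only [hq]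
      rfl
    haveI : Algebra.FiniteType K Γ(X, V) := by
      have h1 : ((X ↘ Spec (CommRingCat.of K)).appLE ⊤ V le_top).hom.FiniteType :=
        LocallyOfFiniteType.finiteType_appLE _ (isAffineOpen_top _) hVa _
      exact h1.comp (RingHom.FiniteType.of_surjective (Scheme.ΓSpecIso (CommRingCat.of K)).inv.hom
        (ConcreteCategory.bijective_of_isIso (Scheme.ΓSpecIso (CommRingCat.of K)).inv).2)
    refine surjective_of_no_colength_two (K := K) (h.appLE (D j) V (hpre j).ge).hom ?_ hcst fun J hJ hall => ?_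
    · have h1 : ∀ (W : X.Opens) (hW : W = h ⁻¹ᵁ D j), (h.appLE (D j) W hW.le).hom.Finite := by
        rintro W rfl
        rw [← Scheme.Hom.app_eq_appLE]
        exact IsFinite.finite_app h (D j) (hD j)
      exact h1 V (hpre j).symm
    · refine ratios_separate K hdim hL hdeg v hspan (v j) hVa J hJ fun l => ?_
      obtain ⟨r, hr⟩ := hu j l
      obtain ⟨c, hc⟩ := hall r
      exact ⟨c, _, hr, hc⟩
  exact IsClosedImmersion.of_isPreimmersion h h.isClosedMap.isClosed_range

end VeryAmpleLib

end
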