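import Mathlib

/-!
# Ideals of colength two and a surjectivity criterion
-/

set_option autoImplicit false

namespace VeryAmpleLib

variable {K : Type*} [Field K] [IsAlgClosed K] {A : Type*} [CommRing A] [Algebra K A]

/-- A finite algebra of dimension at least two over an algebraically closed field has a quotient of
dimension two above every ideal with this property. -/
theorem exists_colength_two (I : Ideal A) [Module.Finite K (A ⧸ I)] (h : 2 ≤ Module.finrank K (A ⧸ I)) :
    ∃ J : Ideal A, I ≤ J ∧ Module.finrank K (A ⧸ J) = 2 := by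
  suffices H : ∀ (d : ℕ) (I : Ideal A), Module.Finite K (A ⧸ I) → Module.finrank K (A ⧸ I) = d → 2 ≤ d →
      ∃ J : Ideal A, I ≤ J ∧ Module.finrank K (A ⧸ J) = 2 from H _ I inferInstance rfl h
  intro d
  induction d using Nat.strong_induction_on with
  | _ d ih =>
    intro I _ hd h2
    rcases eq_or_lt_of_le h2 with h2 | h2
    · exact ⟨I, le_rfl, by omega⟩
    haveI : Nontrivial (A ⧸ I) := Module.nontrivial_of_finrank_pos (R := K) (by omega)
    haveI : IsArtinianRing (A ⧸ I) := IsArtinianRing.of_finite K (A ⧸ I)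
    obtain ⟨N, hN, -⟩ := (eq_bot_or_exists_atom_le (⊤ : Ideal (A ⧸ I))).resolve_left top_ne_bot
    haveI : IsSimpleModule (A ⧸ I) N := isSimpleModule_iff_isAtom.mpr hN
    obtain ⟨m, hm, ⟨e⟩⟩ := isSimpleModule_iff_quot_maximal.mp ‹IsSimpleModule (A ⧸ I) N›
    haveI := hm
    letI : Field ((A ⧸ I) ⧸ m) := Ideal.Quotient.field m
    haveI : Module.Finite K ((A ⧸ I) ⧸ m) :=
      Module.Finite.of_surjective (Ideal.Quotient.mkₐ K m).toLinearMap Ideal.Quotient.mk_surjective
    haveI : Algebra.IsIntegral K ((A ⧸ I) ⧸ m) := Algebra.IsIntegral.of_finite K _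
    have h1 : Module.finrank K (N.restrictScalars K) = 1 :=
      ((e.restrictScalars K).finrank_eq).trans ((LinearEquiv.ofBijective (Algebra.linearMap K ((A ⧸ I) ⧸ m))
        IsAlgClosed.algebraMap_bijective_of_isIntegral).finrank_eq.symm.trans (Module.finrank_self K))
    let J : Ideal A := N.comap (Ideal.Quotient.mk I)
    have hIJ : I ≤ J := fun a ha => by
      change Ideal.Quotient.mk I a ∈ N
      rw [Ideal.Quotient.eq_zero_iff_mem.mpr ha]; exact zero_mem _
    let f : (A ⧸ I) →ₗ[K] (A ⧸ J) := (Ideal.Quotient.factorₐ K hIJ).toLinearMap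
    have hf : Function.Surjective f := fun x => by
      obtain ⟨a, rfl⟩ := Ideal.Quotient.mk_surjective x
      exact ⟨Ideal.Quotient.mk I a, rfl⟩
    have hk : LinearMap.ker f = N.restrictScalars K := by
      ext x
      obtain ⟨a, rfl⟩ := Ideal.Quotient.mk_surjective x
      change Ideal.Quotient.mk J a = 0 ↔ _
      rw [Ideal.Quotient.eq_zero_iff_mem]
      rfl
    haveI : Module.Finite K (A ⧸ J) := Module.Finite.of_surjective f hf
    have h3 := LinearMap.finrank_range_add_finrank_ker f
    rw [LinearMap.range_eq_top.mpr hf, finrank_top, hk, h1, hd] at h3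
    obtain ⟨J', hJ', hJ''⟩ := ih _ (by omega) J inferInstance rfl (by omega)
    exact ⟨J', hIJ.trans hJ', hJ''⟩

/-- A finite ring map which is not surjective identifies two points or kills a tangent vector. -/
theorem surjective_of_no_colength_two [Algebra.FiniteType K A] {R : Type*} [CommRing R] (φ : R →+* A)
    (hfin : φ.Finite) (hK : ∀ c : K, algebraMap K A c ∈ φ.range)
    (h : ∀ J : Ideal A, Module.finrank K (A ⧸ J) = 2 → ¬ ∀ r : R, ∃ c : K, φ r - algebraMap K A c ∈ J) :
    Function.Surjective φ := by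
  classical
  letI := φ.toAlgebra
  haveI : Module.Finite R A := hfin
  by_contra hs
  let C := A ⧸ LinearMap.range (Algebra.linearMap R A)
  have hC : Nontrivial C := Submodule.Quotient.nontrivial_iff.mpr fun ht => hs fun a => by
    obtain ⟨r, hr⟩ := LinearMap.mem_range.mp (ht ▸ Submodule.mem_top : a ∈ LinearMap.range (Algebra.linearMap R A))
    exact ⟨r, hr⟩
  obtain ⟨m, hm, hmC⟩ := Ideal.exists_le_maximal (Module.annihilator R C) fun ht => by
    have : Subsingleton C := Module.annihilator_eq_top_iff.mp ht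
    exact not_subsingleton C this
  let I : Ideal A := m.map φ
  have hne : ¬ ∀ a : A, ∃ r : R, a - φ r ∈ I := fun hall => by
    have htop : (⊤ : Submodule R C) ≤ m • ⊤ := by
      rintro x -
      obtain ⟨a, rfl⟩ := Submodule.Quotient.mk_surjective _ x
      obtain ⟨r, hr⟩ := hall a
      have h1 : a - φ r ∈ m • (⊤ : Submodule R A) := by
        rw [Ideal.smul_top_eq_map]; exact hr
      have h2 := Submodule.mem_map_of_mem (f := (LinearMap.range (Algebra.linearMap R A)).mkQ) h1
      rw [Submodule.map_smul'', Submodule.map_top, Submodule.range_mkQ, map_sub] at h2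
      have h0 : (LinearMap.range (Algebra.linearMap R A)).mkQ (φ r) = 0 :=
        (Submodule.Quotient.mk_eq_zero _).mpr ⟨r, rfl⟩
      rwa [h0, sub_zero] at h2
    obtain ⟨r, hr, hr'⟩ := Submodule.exists_sub_one_mem_and_smul_eq_zero_of_fg_of_le_smul m ⊤
      Module.Finite.fg_top htop
    have hrm : r ∈ m := hmC (Module.mem_annihilator.mpr fun c => hr' c trivial)
    exact hm.ne_top ((Ideal.eq_top_iff_one _).mpr (by simpa using sub_mem hrm hr))
  have hI : I ≠ ⊤ := fun hI => hne fun a => ⟨0, hI ▸ Submodule.mem_top⟩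
  obtain ⟨n, hn, hIn⟩ := Ideal.exists_le_maximal I hI
  -- the residue field of `m` is `K`
  letI : Field (A ⧸ n) := Ideal.Quotient.field n
  haveI : Algebra.FiniteType K (A ⧸ n) :=
    Algebra.FiniteType.of_surjective (Ideal.Quotient.mkₐ K n) Ideal.Quotient.mk_surjective
  haveI : Module.Finite K (A ⧸ n) := finite_of_finite_type_of_isJacobsonRing K (A ⧸ n)
  haveI : Algebra.IsIntegral K (A ⧸ n) := Algebra.IsIntegral.of_finite K _
  have hcm : (n.comap φ) = m := (hm.eq_of_le (Ideal.comap_ne_top φ hn.ne_top)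
    (Ideal.le_comap_map.trans (Ideal.comap_mono hIn))).symm
  have hconst : ∀ r : R, ∃ c : K, φ r - algebraMap K A c ∈ I := fun r => by
    obtain ⟨c, hc⟩ := (IsAlgClosed.algebraMap_bijective_of_isIntegral (k := K) (K := A ⧸ n)).2 (Ideal.Quotient.mk n (φ r))
    refine ⟨c, ?_⟩
    obtain ⟨r₀, hr₀⟩ := hK c
    have h1 : r - r₀ ∈ m := by
      rw [← hcm, Ideal.mem_comap, map_sub, hr₀]
      exact Ideal.Quotient.eq.mp hc.symm
    rw [← hr₀, ← map_sub]
    exact Ideal.mem_map_of_mem φ h1
  -- `A / I` is finite of dimension at least two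
  obtain ⟨S, hS⟩ := (Module.Finite.fg_top : (⊤ : Submodule R A).FG)
  haveI : Module.Finite K (A ⧸ I) := ⟨⟨S.image (Ideal.Quotient.mk I), by
    refine eq_top_iff.mpr fun x _ => ?_
    obtain ⟨a, rfl⟩ := Ideal.Quotient.mk_surjective x
    refine Submodule.span_induction (p := fun a _ => Ideal.Quotient.mk I a ∈ Submodule.span K
      (↑(S.image (Ideal.Quotient.mk I)) : Set (A ⧸ I))) ?_ ?_ ?_ ?_ (hS.ge Submodule.mem_top : a ∈ Submodule.span R (S : Set A))
    · exact fun a ha => Submodule.subset_span (Finset.mem_coe.mpr (Finset.mem_image_of_mem _ ha))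
    · simp
    · intro a b _ _ ha hb; rw [map_add]; exact add_mem ha hb
    · intro r a _ ha
      obtain ⟨c, hc⟩ := hconst r
      have : Ideal.Quotient.mk I (r • a) = c • Ideal.Quotient.mk I a := by
        rw [Algebra.smul_def, map_mul, show Ideal.Quotient.mk I (algebraMap R A r) =
          Ideal.Quotient.mk I (algebraMap K A c) from Ideal.Quotient.eq.mpr hc, ← map_mul, ← Algebra.smul_def]
        rfl
      rw [this]; exact Submodule.smul_mem _ _ ha⟩⟩
  have h2 : 2 ≤ Module.finrank K (A ⧸ I) := by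
    by_contra hlt
    refine hne fun a => ?_
    have hone : (1 : A ⧸ I) ≠ 0 := fun h1 => hI ((Ideal.eq_top_iff_one _).mpr
      (Ideal.Quotient.eq_zero_iff_mem.mp (by rw [map_one]; exact h1)))
    haveI : Nontrivial (A ⧸ I) := ⟨⟨1, 0, hone⟩⟩
    have h1 : Module.finrank K (A ⧸ I) = 1 := by
      have := Module.finrank_pos (R := K) (M := A ⧸ I)
      omega
    obtain ⟨c, hc⟩ := (finrank_eq_one_iff_of_nonzero' (1 : A ⧸ I) hone).mp h1 (Ideal.Quotient.mk I a)
    obtain ⟨r, hr⟩ := hK c
    refine ⟨r, Ideal.Quotient.eq.mp ?_⟩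
    rw [← hc, hr, Algebra.smul_def, mul_one]
    rfl
  obtain ⟨J, hIJ, hJ⟩ := exists_colength_two I h2
  exact h J hJ fun r => (hconst r).imp fun c hc => hIJ hc

end VeryAmpleLib
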